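import Mathlib
import Cfsg.Agent.Helper17.HeTC.Base
import Cfsg.Agent.Helper19.TCR.WG
import Cfsg.Agent.Helper19.HeP2.Facts
import Cfsg.Agent.Helper19.HeK2.Facts

/-! Upper bound `|He| ≤ 4030387200` for the presented Held group:
`⟨a, b, c, d, e⟩` has index at most `266560` (certified coset table `HeK2`), and it is a quotient of
the sub-presentation on `a, …, e`, which has order at most `1512 * 10` (certified table `HeP2` over
`⟨c d⟩`). -/

set_option autoImplicit false
set_option linter.all false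

noncomputable section

namespace Cfsg.Agent.Helper19.HeOrd

open Cfsg.Agent.Helper17.HeTC (G gG)
open Cfsg.Agent.Helper19.TCS

theorem prodw_eq (w : List ℕ) : prodw gG w = Cfsg.Agent.Helper17.HeTC.prodw w := by
  induction w with
  | nil => rfl
  | cons l w ih => rw [prodw, Cfsg.Agent.Helper17.HeTC.prodw, ih]

theorem prodw_sq (l : ℕ) : prodw gG [l, l] = 1 := by
  simp [prodw, Cfsg.Agent.Helper17.HeTC.gG_mul_self]

open Cfsg.Agent.Helper17.HeTC in
/-- all relator words of the He table hold in the presented group. -/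
theorem he_rels : ∀ w ∈ HeK2.rels, prodw gG w = 1 := by
  intro w hw
  simp only [HeK2.rels, List.mem_cons, List.not_mem_nil, or_false] at hw
  rcases hw with rfl | rfl | rfl | rfl | rfl | rfl | rfl | rfl | rfl | rfl | rfl | rfl | rfl | rfl |
    rfl | rfl | rfl | rfl | rfl | rfl | rfl | rfl | rfl | rfl | rfl | rfl | rfl | rfl | rfl | rfl |
    rfl | rfl
  · exact prodw_sq 0
  · exact prodw_sq 1
  · exact prodw_sq 2
  · exact prodw_sq 3
  · exact prodw_sq 4
  · exact prodw_sq 5
  · exact prodw_sq 6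
  · rw [prodw_eq]; exact P0
  · rw [prodw_eq]; exact P1
  · rw [prodw_eq]; exact P2
  · rw [prodw_eq]; exact P3
  · rw [prodw_eq]; exact P4
  · rw [prodw_eq]; exact P5
  · rw [prodw_eq]; exact P6
  · rw [prodw_eq]; exact P7
  · rw [prodw_eq]; exact P8
  · rw [prodw_eq]; exact P9
  · rw [prodw_eq]; exact P10
  · rw [prodw_eq]; exact P11
  · rw [prodw_eq]; exact P12
  · rw [prodw_eq]; exact P13
  · rw [prodw_eq]; exact P14
  · rw [prodw_eq]; exact P15
  · rw [prodw_eq]; exact P16
  · rw [prodw_eq]; exact P17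
  · rw [prodw_eq]; exact P18
  · rw [prodw_eq]; exact P19
  · rw [prodw_eq]; exact P20
  · rw [prodw_eq]; exact P21
  · rw [prodw_eq]; exact P22
  · rw [prodw_eq]; exact P23
  · rw [prodw_eq]; exact P24

/-! ### the sub-presentation on `a, …, e` -/

abbrev P2G : Type := WG 5 HeP2.rels

def g2 (l : ℕ) : P2G := wgc 5 HeP2.rels l

theorem p2_sq : ∀ l, l < 5 → [l, l] ∈ HeP2.rels := by decide

theorem p2_lt : ∀ w ∈ HeP2.rels, ∀ l ∈ w, l < 5 := by decide

theorem prodw_replicate {Γ : Type*} [Group Γ] (f : ℕ → Γ) (k : ℕ) (u : List ℕ) :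
    prodw f (List.replicate k u).flatten = prodw f u ^ k := by
  induction k with
  | zero => simp [prodw]
  | succ k ih =>
    rw [List.replicate_succ, List.flatten_cons, prodw_append, ih, pow_succ]

/-- `x = c d` in the sub-presentation. -/
def x2 : P2G := prodw g2 [3, 2]

theorem x2_pow : x2 ^ 10 = 1 := by
  have h : prodw g2 ((List.replicate 10 [3, 2]).flatten) = 1 :=
    wg_rels_one 5 HeP2.rels _ (by decide)
  rwa [prodw_replicate] at h

theorem card_zpowers_x2 : Nat.card (Subgroup.zpowers x2) ≤ 10 := by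
  rw [Nat.card_zpowers]
  exact orderOf_le_of_pow_eq_one (by norm_num) x2_pow

theorem p2_closed :
    Sem 1512 5 HeP2.invF 46 HeP2.rotsF HeP2.subsF (Subgroup.zpowers x2) g2 ∧
      Closed 1512 5 HeP2.md HeP2.ent HeP2.parF HeP2.pletF (Subgroup.zpowers x2) g2 := by
  apply HeP2.closed
  · intro l hl
    rw [HeP2.invF_ok l hl]
    exact (wgc_inv 5 HeP2.rels (p2_sq l hl)).symm
  · exact wg_rels_one 5 HeP2.rels
  · intro w hw
    simp only [HeP2.subs, List.mem_cons, List.not_mem_nil, or_false] at hw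
    subst hw
    exact Subgroup.mem_zpowers x2

theorem card_P2G : Nat.card P2G ≤ 15120 ∧ Finite P2G := by
  obtain ⟨S, hcl⟩ := p2_closed
  have h1 := card_le S (wg_gen 5 HeP2.rels) hcl
  have h2 := card_zpowers_x2
  have hfin : Finite (P2G ⧸ Subgroup.zpowers x2) := finite_quot S (wg_gen 5 HeP2.rels) hcl
  have hpos : 0 < Nat.card (Subgroup.zpowers x2) := by
    rw [Nat.card_zpowers]
    exact orderOf_pos_iff.mpr (isOfFinOrder_iff_pow_eq_one.mpr ⟨10, by norm_num, x2_pow⟩)
  have hidx : (Subgroup.zpowers x2).index ≠ 0 := by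
    rw [Subgroup.index_eq_card]; exact Nat.card_pos.ne'
  have hcard : Nat.card P2G ≠ 0 := by
    rw [← Subgroup.card_mul_index (Subgroup.zpowers x2)]
    exact Nat.mul_ne_zero hpos.ne' hidx
  refine ⟨?_, Nat.finite_of_card_ne_zero hcard⟩
  calc Nat.card P2G ≤ 1512 * Nat.card (Subgroup.zpowers x2) := h1
    _ ≤ 1512 * 10 := Nat.mul_le_mul_left _ h2
    _ = 15120 := by norm_num

/-! ### the subgroup `⟨a, …, e⟩` of He -/

theorem p2_rels_he : ∀ w ∈ HeP2.rels, prodw gG w = 1 := by
  intro w hw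
  apply he_rels
  revert w
  decide

def phi2 : P2G →* G := wgHom gG p2_lt p2_rels_he

/-- the subgroup `⟨a, b, c, d, e⟩`. -/
def K2 : Subgroup G := phi2.range

theorem K2_eq : K2 = Subgroup.closure {g : G | ∃ l, l < 5 ∧ g = gG l} :=
  wgHom_range gG p2_lt p2_rels_he

theorem card_K2 : Nat.card K2 ≤ 15120 := by
  obtain ⟨h1, h2⟩ := card_P2G
  haveI := h2
  have : Nat.card K2 ≤ Nat.card P2G := by
    unfold K2
    exact Nat.card_le_card_of_surjective _ phi2.rangeRestrict_surjective
  exact this.trans h1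

/-! ### He over `⟨a, …, e⟩` -/

theorem he_closed :
    Sem 266560 7 HeK2.invF 79 HeK2.rotsF HeK2.subsF K2 gG ∧
      Closed 266560 7 HeK2.md HeK2.ent HeK2.parF HeK2.pletF K2 gG := by
  apply HeK2.closed
  · intro l hl
    rw [HeK2.invF_ok l hl]
    exact (Cfsg.Agent.Helper17.HeTC.gG_inv l).symm
  · exact he_rels
  · intro w hw
    rw [K2_eq]
    simp only [HeK2.subs, List.mem_cons, List.not_mem_nil, or_false] at hw
    rcases hw with rfl | rfl | rfl | rfl | rfl
    · exact Subgroup.subset_closure ⟨0, by norm_num, by simp [prodw]⟩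
    · exact Subgroup.subset_closure ⟨1, by norm_num, by simp [prodw]⟩
    · exact Subgroup.subset_closure ⟨2, by norm_num, by simp [prodw]⟩
    · exact Subgroup.subset_closure ⟨3, by norm_num, by simp [prodw]⟩
    · exact Subgroup.subset_closure ⟨4, by norm_num, by simp [prodw]⟩

def idxG : Cfsg.Spor.He.Gen → ℕ
  | .a => 0
  | .b => 1
  | .c => 2
  | .d => 3
  | .e => 4
  | .f => 5
  | .g => 6

theorem he_gen : Subgroup.closure {g : G | ∃ l, l < 7 ∧ g = gG l} = ⊤ := by
  rw [eq_top_iff, ← PresentedGroup.closure_range_of]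
  apply Subgroup.closure_mono
  rintro _ ⟨a, rfl⟩
  refine ⟨idxG a, by cases a <;> decide, ?_⟩
  cases a <;> rfl

theorem card_G_le : Nat.card G ≤ 4030387200 := by
  obtain ⟨S, hcl⟩ := he_closed
  have h1 := card_le S he_gen hcl
  calc Nat.card G ≤ 266560 * Nat.card K2 := h1
    _ ≤ 266560 * 15120 := Nat.mul_le_mul_left _ card_K2
    _ = 4030387200 := by norm_num

theorem card_G_pos : 0 < Nat.card G := by
  obtain ⟨S, hcl⟩ := he_closed
  haveI : Finite (G ⧸ K2) := finite_quot S he_gen hcl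
  obtain ⟨h1, h2⟩ := card_P2G
  haveI := h2
  haveI : Finite K2 := by
    unfold K2
    exact Finite.of_surjective _ phi2.rangeRestrict_surjective
  have hidx : K2.index ≠ 0 := by
    rw [Subgroup.index_eq_card]; exact Nat.card_pos.ne'
  rw [← Subgroup.card_mul_index K2]
  exact Nat.mul_pos Nat.card_pos (Nat.pos_of_ne_zero hidx)

theorem finG : Finite G := Nat.finite_of_card_ne_zero card_G_pos.ne'

end Cfsg.Agent.Helper19.HeOrd
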