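import Mathlib
import Cfsg.Agent.Helper17.HeTC.Perm
import Cfsg.Agent.Helper19.HeOrd.Upper

/-! Lower bound `4030387200 ≤ |He|` through a stabiliser chain on the 2058 points (permutation
representation `Helper17.HeTC.phi`), and consequences: the order, faithfulness of the permutation
representation, triviality of the pointwise stabiliser of the base.  (Generic part adapted from
`Helper17.SuzOrd.Lower`.) -/

set_option autoImplicit false
set_option linter.all false
set_option maxRecDepth 100000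

noncomputable section

namespace Cfsg.Agent.Helper19.HeOrd

open Cfsg.Spor Cfsg.Agent.Helper17 Cfsg.Agent.Helper17.HeTC

theorem phi_prodw (w : List ℕ) (h : ∀ l ∈ w, l < nl) : phi (prodw w) = permw w := by
  induction w with
  | nil => simp [prodw, permw]
  | cons l w ih =>
    rw [prodw, permw, map_mul, phi_gG (h l (List.mem_cons_self ..)),
      ih (fun x hx => h x (List.mem_cons_of_mem _ hx))]

theorem phi_prodw_apply (w : List ℕ) (h : ∀ l ∈ w, l < nl) (i : ℕ) :
    phi (prodw w) i = evalw w i := by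
  rw [phi_prodw w h, permw_apply]

/-- the stabiliser of a point under `phi`. -/
def stabP (β : ℕ) : Subgroup G := (MulAction.stabilizer (Equiv.Perm ℕ) β).comap phi

theorem mem_stabP {β : ℕ} {g : G} : g ∈ stabP β ↔ phi g β = β := by
  rw [stabP, Subgroup.mem_comap, MulAction.mem_stabilizer_iff, Equiv.Perm.smul_def]

/-- pointwise stabiliser of a list of points. -/
def Kof : List ℕ → Subgroup G
  | [] => ⊤
  | b :: bs => Kof bs ⊓ stabP b

theorem mem_Kof {bs : List ℕ} {g : G} : g ∈ Kof bs ↔ ∀ b ∈ bs, phi g b = b := by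
  induction bs with
  | nil => simp [Kof]
  | cons b bs ih =>
    rw [Kof, Subgroup.mem_inf, ih, mem_stabP]
    simp only [List.mem_cons, forall_eq_or_imp]
    tauto

theorem step [Finite G] (K : Subgroup G) (β : ℕ) (O : Finset ℕ)
    (h : ∀ p ∈ O, ∃ k ∈ K, phi k β = p) :
    O.card * Nat.card ↥(K ⊓ stabP β) ≤ Nat.card K := by
  classical
  set S : Subgroup K := (stabP β).subgroupOf K with hS
  have hcard : Nat.card S = Nat.card ↥(K ⊓ stabP β) := by
    rw [hS, ← Subgroup.inf_subgroupOf_left]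
    exact Nat.card_congr (Subgroup.subgroupOfEquivOfLe inf_le_left).toEquiv
  have hidx : O.card ≤ S.index := by
    rw [Subgroup.index_eq_card]
    choose! f hfK hf using h
    have : Function.Injective (fun p : O => ((⟨f p.1, hfK p.1 p.2⟩ : K) : K ⧸ S)) := by
      intro p q hpq
      simp only at hpq
      rw [QuotientGroup.eq] at hpq
      rw [hS, Subgroup.mem_subgroupOf, mem_stabP] at hpq
      simp only [Subgroup.coe_mul, Subgroup.coe_inv, map_mul, map_inv,
        Equiv.Perm.mul_apply] at hpq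
      rw [hf q.1 q.2, Equiv.Perm.inv_eq_iff_eq, hf p.1 p.2] at hpq
      exact Subtype.ext hpq.symm
    have := Nat.card_le_card_of_injective _ this
    simpa using this
  calc O.card * Nat.card ↥(K ⊓ stabP β) = O.card * Nat.card S := by rw [hcard]
    _ ≤ S.index * Nat.card S := Nat.mul_le_mul_right _ hidx
    _ = Nat.card K := by rw [mul_comm]; exact Subgroup.card_mul_index S

/-! ### tree certificates -/

def chkTree (W : List (List ℕ)) : List (ℕ × ℕ × ℕ) → List ℕ → Bool
  | [], _ => true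
  | (p, q, k) :: t, seen =>
    seen.contains q && (evalw (W.getD k []) q == p) && chkTree W t (p :: seen)

def treePts : List (ℕ × ℕ × ℕ) → List ℕ → List ℕ
  | [], seen => seen
  | (p, _, _) :: t, seen => treePts t (p :: seen)

def wordsOK (bs : List ℕ) (W : List (List ℕ)) : Bool :=
  W.all fun w => (w.all fun l => decide (l < nl)) && bs.all fun b => evalw w b == b

theorem word_mem {bs : List ℕ} {W : List (List ℕ)} (h : wordsOK bs W = true) (k : ℕ) :
    (∀ l ∈ W.getD k [], l < nl) ∧ prodw (W.getD k []) ∈ Kof bs := by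
  by_cases hk : k < W.length
  · have hm : W.getD k [] ∈ W := by
      rw [List.getD_eq_getElem _ _ hk]; exact List.getElem_mem hk
    simp only [wordsOK, List.all_eq_true, Bool.and_eq_true, decide_eq_true_eq, beq_iff_eq] at h
    obtain ⟨h1, h2⟩ := h _ hm
    refine ⟨h1, ?_⟩
    rw [mem_Kof]
    intro b hb
    rw [phi_prodw_apply _ h1]
    exact h2 b hb
  · rw [List.getD_eq_default _ _ (not_lt.mp hk)]
    exact ⟨by simp, by simp [prodw, (Kof bs).one_mem]⟩

theorem reach_of_chkTree {bs : List ℕ} {W : List (List ℕ)} (hW : wordsOK bs W = true) (β : ℕ) :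
    ∀ (l : List (ℕ × ℕ × ℕ)) (seen : List ℕ),
      (∀ p ∈ seen, ∃ g ∈ Kof bs, phi g β = p) → chkTree W l seen = true →
      ∀ p ∈ treePts l seen, ∃ g ∈ Kof bs, phi g β = p := by
  intro l
  induction l with
  | nil => intro seen hs _ p hp; exact hs p hp
  | cons x t ih =>
    obtain ⟨p, q, k⟩ := x
    intro seen hs hc
    simp only [chkTree, Bool.and_eq_true, List.contains_iff_mem, beq_iff_eq] at hc
    obtain ⟨⟨hq, he⟩, ht⟩ := hc
    apply ih (p :: seen) _ ht
    intro p' hp'
    rcases List.mem_cons.mp hp' with rfl | hp'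
    · obtain ⟨g, hg, hgq⟩ := hs q hq
      obtain ⟨hl, hm⟩ := word_mem hW k
      refine ⟨prodw (W.getD k []) * g, (Kof bs).mul_mem hm hg, ?_⟩
      rw [map_mul, Equiv.Perm.mul_apply, hgq, phi_prodw_apply _ hl, he]
    · exact hs p' hp'

theorem level [Finite G] {bs : List ℕ} {W : List (List ℕ)} (hW : wordsOK bs W = true) (β : ℕ)
    (T : List (ℕ × ℕ × ℕ)) (hT : chkTree W T [β] = true) (n : ℕ)
    (hn : (treePts T [β]).toFinset.card = n) :
    n * Nat.card ↥(Kof (β :: bs)) ≤ Nat.card ↥(Kof bs) := by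
  rw [← hn]
  apply step (Kof bs) β
  intro p hp
  rw [List.mem_toFinset] at hp
  refine reach_of_chkTree hW β T [β] ?_ hT p hp
  intro p hp
  rw [List.mem_singleton] at hp
  subst hp
  exact ⟨1, (Kof bs).one_mem, by simp⟩

def W3 : List (List ℕ) :=
   [[0],
    [3],
    [4],
    [5],
    [1, 0, 1],
    [2, 1, 3, 2, 3, 2, 6, 3, 2, 3, 6, 2, 3, 2, 3, 1, 2]]

def W4 : List (List ℕ) :=
   [[0],
    [4, 1, 0, 1]]

def T3 : List (ℕ × ℕ × ℕ) :=
  [(29, 15, 1), (30, 15, 2), (31, 15, 3), (28, 15, 5), (54, 29, 2), (55, 29, 3), (57, 29, 4), (1691, 29, 5), (58, 30, 3), (51, 30, 5), (59, 31, 1), (91, 31, 5), (52, 28, 1), (53, 28, 3), (97, 54, 1), (98, 54, 3), (1260, 54, 5), (86, 55, 1), (102, 55, 4), (1693, 55, 5), (1577, 57, 5), (1956, 1691, 1), (1921, 1691, 3), (1910, 1691, 4), (104, 58, 1), (90, 51, 1), (105, 59, 2), (1863, 59, 5), (154, 91, 1), (93, 52, 2), (94, 52, 3), (1262, 52, 5), (96, 53, 1), (166, 97, 3), (168, 98, 1), (1692, 1260, 1), (145, 86, 2), (146, 86, 4), (1656, 86,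 5), (2040, 102, 5), (1622, 1693, 1), (1911, 1693, 4), (1612, 1577, 1), (1648, 1956, 2), (2050, 1956, 3), (1934, 1956, 4), (1109, 1956, 5), (1598, 1921, 1), (106, 104, 2), (1899, 104, 5), (151, 90, 2), (152, 90, 3), (1167, 90, 5), (1964, 105, 5), (1514, 1863, 1), (1639, 1863, 3), (1655, 1863, 4), (165, 154, 2), (223, 154, 3), (1762, 154, 5), (159, 93, 3), (842, 93, 5), (144, 94, 1), (1263, 94, 5), (1578, 1262, 0), (1646, 1262, 1), (1608, 1262, 3), (164, 96, 2), (1515, 96, 5), (257, 166, 1), (225, 168, 2), (1013, 168, 5), (1957, 1692, 2), (1982, 1692, 3), (724, 1692, 5), (143, 145, 4), (1232, 146, 5), (1271, 1656, 1), (1564, 1656, 4), (1874, 2040, 1), (1940, 1622, 2), (1942, 1622, 3), (1887, 1622, 4), (807, 1622, 5), (1935, 1612, 2), (1936, 1612, 3), (1532, 1612, 5), (1958, 1648, 3), (1898, 1648, 4), (1017, 1648, 5), (1923, 2050, 1), (2051, 2050, 4), (644, 2050, 5), (1119, 1934, 5), (1108, 1109, 0), (1320, 1109, 1), (1016, 1109, 3), (1533, 1109, 4), (1922, 1598, 2), (617,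 1598, 5), (1568, 1899, 1), (235, 151, 3), (1879, 152, 5), (1189, 1167, 1), (1579, 1167, 3), (1833, 1964, 1), (1848, 1514, 2), (1093, 1514, 3), (1237, 1514, 4), (183, 1514, 5), (1218, 1639, 1), (221, 165, 3), (1357, 165, 5), (982, 223, 5), (1803, 1762, 0), (1809, 1762, 1), (1419, 1762, 3), (251, 159, 1), (1261, 842, 1), (224, 144, 2), (1416, 144, 5), (1210, 1263, 1), (1615, 1578, 1), (1227, 1646, 2), (1932, 1646, 3), (1378, 1646, 5), (1186, 1608, 1), (1087, 1515, 1), (1348, 1515, 3), (222, 257, 2), (711, 257, 5), (720, 225, 5), (1022, 1013, 1), (1006, 1013, 3), (2054, 1957, 3), (723, 1982, 5), (722, 724, 1), (444, 724, 3), (1448, 724, 4), (823, 1232, 1), (851, 1271, 2), (1150, 1271, 3), (1154, 1271, 4), (1894, 1271, 5), (1885, 1874, 2), (2041, 1874, 3), (985, 1874, 5), (1943, 1940, 3), (1871, 1940, 4), (911, 1940, 5), (2042, 1942, 4), (910, 1942, 5), (988, 1887, 5), (619, 807, 0), (954, 807, 1), (570, 807, 3), (989, 807, 4), (2052, 1935, 3), (1026, 1936, 5), (1117, 1532,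 3), (2055, 1958, 1), (2034, 1958, 4), (1015, 1017, 1), (1925, 1923, 2), (386, 1923, 5), (1118, 2051, 5), (402, 644, 1), (733, 644, 4), (1104, 1119, 1), (931, 1108, 1), (1458, 1320, 2), (1457, 1320, 3), (1743, 1320, 4), (1021, 1016, 1), (983, 617, 1), (616, 617, 3), (990, 617, 4), (1902, 1568, 2), (1158, 1568, 3), (288, 1568, 5), (358, 235, 1), (1543, 1879, 1), (1613, 1189, 2), (1614, 1189, 3), (1557, 1579, 1), (1776, 1833, 2), (1469, 1833, 3), (401, 1833, 5), (1516, 1848, 3), (1663, 1848, 4), (283, 1848, 5), (809, 1093, 1), (827, 1093, 4), (284, 1093, 5), (641, 1237, 5), (268, 183, 0), (274, 183, 1), (285, 183, 3), (407, 183, 4), (810, 1218, 2), (1635, 1218, 5), (341, 221, 1), (921, 1357, 1), (1477, 1803, 1), (1742, 1809, 2), (1422, 1809, 3), (423, 1809, 5), (984, 1419, 1), (342, 251, 2), (1427, 251, 5), (1649, 1261, 2), (1695, 1261, 3), (1058, 1261, 5), (980, 1416, 1), (1629, 1210, 2), (487, 1210, 5), (1562, 1615, 2), (1938, 1615, 3), (1496, 1615, 5), (1650, 1227, 3),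 (1361, 1227, 5), (1609, 1932, 1), (998, 1932, 5), (946, 1378, 3), (1606, 1186, 2), (497, 1186, 5), (1495, 1087, 2), (707, 1087, 3), (1099, 711, 1), (727, 720, 1), (1445, 1022, 2), (1446, 1022, 3), (1121, 1022, 4), (858, 1022, 5), (2057, 2054, 1), (726, 723, 1), (1056, 722, 2), (443, 722, 3), (1434, 722, 4), (511, 823, 2), (1607, 823, 5), (754, 851, 3), (772, 851, 4), (1895, 851, 5), (762, 1150, 4), (1880, 1154, 5), (1634, 1894, 0), (1714, 1894, 1), (1889, 1894, 3), (1878, 1894, 4), (2039, 1885, 3), (1331, 985, 1), (618, 985, 3), (2048, 1943, 1), (2037, 1943, 4), (622, 2042, 5), (1044, 988, 1), (986, 619, 1), (944, 954, 2), (943, 954, 3), (1783, 954, 5), (2021, 2052, 1), (653, 1026, 1), (1449, 1117, 1), (2016, 2055, 2), (2027, 2055, 4), (1217, 2055, 5), (1435, 1015, 2), (643, 1015, 3), (1120, 1118, 1), (404, 402, 2), (450, 402, 4), (1375, 402, 5), (1107, 1104, 2), (718, 1104, 3), (1057, 931, 3), (1033, 1458, 3), (1439, 1457, 1), (1334, 1457, 4), (1937, 1457, 5), (648, 1021,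 2), (1520, 1021, 5), (1420, 983, 2), (647, 983, 5), (1567, 1902, 3), (441, 1902, 5), (451, 288, 3), (1098, 358, 5), (1877, 1543, 2), (1159, 1543, 5), (1236, 1516, 4), (654, 827, 5), (1011, 641, 1), (403, 268, 1), (418, 274, 2), (420, 274, 3), (394, 274, 4), (445, 285, 1), (1433, 341, 5), (1358, 921, 2), (646, 921, 5), (1377, 1477, 2), (628, 1477, 5), (1330, 1742, 3), (674, 1742, 5), (683, 1422, 5), (684, 423, 3), (1054, 342, 5), (1282, 1427, 1), (1959, 1649, 3), (677, 1058, 3), (808, 487, 1), (828, 487, 4), (1852, 1562, 3), (1066, 1496, 3), (1960, 1650, 1), (1091, 1361, 1), (629, 998, 1), (1281, 946, 1), (1094, 1495, 3), (419, 707, 5), (1519, 1099, 2), (1019, 1099, 5), (1114, 727, 2), (1115, 727, 3), (1397, 727, 5), (1440, 1445, 3), (1534, 1445, 4), (1535, 1446, 1), (1060, 1121, 5), (965, 858, 0), (517, 858, 1), (1027, 858, 3), (678, 858, 4), (1149, 2057, 5), (1398, 726, 5), (676, 1056, 3), (1917, 1634, 1), (1987, 1714, 2), (1794, 1714, 3), (2019, 2039, 1), (899, 1331,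 2), (1991, 2048, 4), (941, 2048, 5), (942, 1044, 2), (1332, 986, 2), (1831, 986, 5), (591, 944, 3), (2004, 943, 5), (1329, 2021, 5), (1238, 2027, 5), (1662, 1217, 4), (1014, 1435, 3), (734, 1120, 2), (1061, 1120, 5), (1052, 1107, 3), (660, 1033, 1), (1569, 1159, 1), (997, 1011, 2)]

def T4 : List (ℕ × ℕ × ℕ) :=
  [(61, 34, 0), (64, 34, 1), (109, 61, 1)]

theorem wOK3 : wordsOK [1, 0] W3 = true := by decide +kernel
theorem wOK4 : wordsOK [15, 1, 0] W4 = true := by decide +kernel

theorem lev1 : 2058 * Nat.card ↥(Kof [0]) ≤ Nat.card G := by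
  haveI := finG
  have h := step (⊤ : Subgroup G) 0 (Finset.range N) (by
    intro p hp
    rw [Finset.mem_range] at hp
    obtain ⟨g, hg⟩ : ∃ g : G, nd p = g • n0 := by
      induction (nd p) using QuotientGroup.induction_on with
      | H g => exact ⟨g, by simp [n0, MulAction.Quotient.smul_mk]⟩
    refine ⟨g, Subgroup.mem_top g, ?_⟩
    have h1 := hpsi p hp
    rw [hg] at h1
    unfold psiQ at h1
    rw [TCG.psi_smul] at h1
    have h0 := psi_n0
    unfold psiQ at h0
    rw [h0] at h1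
    exact h1)
  rw [Finset.card_range, Subgroup.card_top] at h
  exact h

theorem Kof0 : Kof [0] = Hs := by
  ext g
  rw [mem_Kof]
  simp only [List.mem_singleton, forall_eq]
  constructor
  · intro h
    have h1 : psiQ (g • n0) = psiQ n0 := by
      unfold psiQ
      rw [TCG.psi_smul]
      have h0 := psi_n0
      unfold psiQ at h0
      rw [h0, h]
    have h2 := psi_inj h1
    unfold n0 at h2
    rw [MulAction.Quotient.smul_mk, QuotientGroup.eq] at h2
    simpa using Hs.inv_mem h2
  · intro h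
    exact hH g h

theorem lev2 : 1360 * Nat.card ↥(Kof [1, 0]) ≤ Nat.card ↥(Kof [0]) := by
  haveI := finG
  have h := step (Kof [0]) 1 ((Finset.range N).filter (fun i => oid i = 1)) (by
    intro p hp
    rw [Finset.mem_filter, Finset.mem_range] at hp
    obtain ⟨h, hh, e⟩ := orb_reach 1 (odep p) p hp.1 rfl hp.2
    exact ⟨h, Kof0 ▸ hh, e⟩)
  have hc : ((Finset.range N).filter (fun i => oid i = 1)).card = 1360 := by decide +kernel
  rw [hc] at h
  exact h

theorem lev3 : 360 * Nat.card ↥(Kof [15, 1, 0]) ≤ Nat.card ↥(Kof [1, 0]) := by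
  haveI := finG
  exact level wOK3 15 T3 (by decide +kernel) 360 (by decide +kernel)

theorem lev4 : 4 * Nat.card ↥(Kof [34, 15, 1, 0]) ≤ Nat.card ↥(Kof [15, 1, 0]) := by
  haveI := finG
  exact level wOK4 34 T4 (by decide +kernel) 4 (by decide +kernel)

theorem card_lower : 4030387200 * Nat.card ↥(Kof [34, 15, 1, 0]) ≤ Nat.card G := by
  have h1 := lev1
  have h2 := lev2
  have h3 := lev3
  have h4 := lev4
  nlinarith [h1, h2, h3, h4]

theorem card_G : Nat.card G = 4030387200 := by
  haveI := finG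
  have h1 := card_lower
  have hpos : 0 < Nat.card ↥(Kof [34, 15, 1, 0]) := Nat.card_pos
  have h2 := card_G_le
  nlinarith

theorem card_Kbase : Nat.card ↥(Kof [34, 15, 1, 0]) = 1 := by
  haveI := finG
  have h1 := card_lower
  have hpos : 0 < Nat.card ↥(Kof [34, 15, 1, 0]) := Nat.card_pos
  rw [card_G] at h1
  nlinarith

/-- an element fixing the four base points is trivial. -/
theorem eq_one_of_fix {g : G} (h : ∀ b ∈ [34, 15, 1, 0], phi g b = b) : g = 1 := by
  have hm : g ∈ Kof [34, 15, 1, 0] := mem_Kof.mpr h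
  have hb : Kof [34, 15, 1, 0] = ⊥ := Subgroup.card_eq_one.mp card_Kbase
  rw [hb] at hm
  exact Subgroup.mem_bot.mp hm

theorem phi_injective : Function.Injective phi := by
  rw [injective_iff_map_eq_one]
  intro g hg
  apply eq_one_of_fix
  intro b _
  rw [hg, Equiv.Perm.one_apply]

/-- word identity test via the base. -/
def chkBase (w : List ℕ) : Bool :=
  (w.all fun l => decide (l < nl)) && [34, 15, 1, 0].all fun b => evalw w b == b

theorem prodw_eq_one {w : List ℕ} (h : chkBase w = true) : Cfsg.Agent.Helper17.HeTC.prodw w = 1 := by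
  simp only [chkBase, Bool.and_eq_true, List.all_eq_true, decide_eq_true_eq, beq_iff_eq] at h
  apply eq_one_of_fix
  intro b hb
  rw [phi_prodw_apply _ h.1]
  exact h.2 b hb

end Cfsg.Agent.Helper19.HeOrd
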