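import Mathlib
import Cfsg.Agent.Helper19.HeOrd.Lower

/-! Simplicity of the presented Held group: the 2058-point action is primitive (the point
stabiliser `S₄(4):2` is maximal), a nontrivial normal subgroup `M` has index prime to `7`, hence
contains the element `x = d f g` of order `7`, and the relations force `G / M = 1`.
(Scheme of `Helper17.SuzOrd.Simple`.) -/

set_option autoImplicit false
set_option linter.all false
set_option maxRecDepth 100000

noncomputable section

namespace Cfsg.Agent.Helper19.HeOrd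

open Cfsg.Spor Cfsg.Agent.Helper17 Cfsg.Agent.Helper17.HeTC

theorem psiQ_smul (g : G) (q : Q) : psiQ (g • q) = phi g (psiQ q) := by
  unfold psiQ; rw [TCG.psi_smul]

theorem trans0 {p : ℕ} (hp : p < N) : ∃ g : G, phi g 0 = p := by
  obtain ⟨g, hg⟩ : ∃ g : G, nd p = g • n0 := by
    induction (nd p) using QuotientGroup.induction_on with
    | H g => exact ⟨g, by simp [n0, MulAction.Quotient.smul_mk]⟩
  refine ⟨g, ?_⟩
  have h1 := hpsi p hp
  rw [hg, psiQ_smul, psi_n0] at h1
  exact h1

theorem stab0 {g : G} : phi g 0 = 0 ↔ g ∈ Hs := by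
  rw [← Kof0, mem_Kof]; simp

theorem mem_of_same_image {L : Subgroup G} (hL : Hs ≤ L) {g₁ g₂ : G}
    (h : phi g₁ 0 = phi g₂ 0) (h2 : g₂ ∈ L) : g₁ ∈ L := by
  have h3 : g₂⁻¹ * g₁ ∈ Hs := by
    rw [← stab0, map_mul, map_inv, Equiv.Perm.mul_apply, h]
    simp
  have := L.mul_mem h2 (hL h3)
  simpa using this

theorem hgenG : Subgroup.closure {g : G | ∃ l, l < nl ∧ g = gG l} = ⊤ := by
  rw [eq_top_iff, ← PresentedGroup.closure_range_of]
  apply Subgroup.closure_mono
  rintro _ ⟨a, rfl⟩
  exact ⟨idx a, idx_lt a, by rw [gG, gen_idx]⟩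

/-! ### word calculus -/

theorem pw_append (u v : List ℕ) : prodw (u ++ v) = prodw v * prodw u := by
  induction u with
  | nil => simp [prodw]
  | cons l u ih => simp [prodw, ih, mul_assoc]

theorem pw_replicate (k : ℕ) (u : List ℕ) :
    prodw (List.replicate k u).flatten = prodw u ^ k := by
  induction k with
  | zero => simp [prodw]
  | succ k ih =>
    rw [List.replicate_succ, List.flatten_cons, pw_append, ih, pow_succ]

/-- a concatenation of pieces lying in `L` lies in `L`. -/
theorem pw_flatten_mem (L : Subgroup G) (allowed : List (List ℕ))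
    (hall : ∀ w ∈ allowed, prodw w ∈ L) :
    ∀ pcs : List (List ℕ), (∀ p ∈ pcs, p ∈ allowed) → prodw pcs.flatten ∈ L := by
  intro pcs
  induction pcs with
  | nil => intro _; simp [prodw, L.one_mem]
  | cons p pcs ih =>
    intro h
    rw [List.flatten_cons, pw_append]
    exact L.mul_mem (ih (fun q hq => h q (List.mem_cons_of_mem _ hq)))
      (hall p (h p (List.mem_cons_self ..)))

/-! ### maximality of the point stabiliser -/

theorem subW_mem_Hs : ∀ k, k < nsub → prodw (subW k) ∈ Hs := by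
  intro k hk
  obtain ⟨s, hs, e⟩ := subW_mem k hk
  have hm : PresentedGroup.mk Rels s ∈ Hs := by
    rw [Hs_eq]; exact Subgroup.mem_map_of_mem _ (Subgroup.subset_closure hs)
  have hl : ∀ l ∈ subW k, l < nl := by
    unfold nsub at hk
    interval_cases k <;> decide
  have h0 : phi (prodw (subW k)) 0 = 0 := by
    rw [phi_prodw _ hl, ← e]; exact hH _ hm
  exact stab0.mp h0

theorem gG_mem_Hs : ∀ l ∈ [0, 2, 3, 4, 5], gG l ∈ Hs := by
  intro l hl
  have h0 : phi (gG l) 0 = 0 := by
    have hl' : l < nl := by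
      simp only [List.mem_cons, List.not_mem_nil, or_false] at hl
      rcases hl with rfl | rfl | rfl | rfl | rfl <;> decide
    rw [phi_gG hl', σ_apply]
    simp only [List.mem_cons, List.not_mem_nil, or_false] at hl
    rcases hl with rfl | rfl | rfl | rfl | rfl <;> decide +kernel
  exact stab0.mp h0

theorem pw_single (l : ℕ) : prodw [l] = gG l := by simp [prodw]

def wu : List (List ℕ) := [[1], [2], [3], [2], [3], [5], [3], [2], [3], [2], [1], [5], [3]]

/-- from `b ∈ L` to `g ∈ L`. -/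
theorem g_of_b {L : Subgroup G} (hL : Hs ≤ L) (hb : gG 1 ∈ L) : gG 6 ∈ L := by
  have hall : ∀ w ∈ [[0], [1], [2], [3], [4], [5]], prodw w ∈ L := by
    intro w hw
    simp only [List.mem_cons, List.not_mem_nil, or_false] at hw
    rcases hw with rfl | rfl | rfl | rfl | rfl | rfl
    · rw [pw_single]; exact hL (gG_mem_Hs 0 (by decide))
    · rw [pw_single]; exact hb
    · rw [pw_single]; exact hL (gG_mem_Hs 2 (by decide))
    · rw [pw_single]; exact hL (gG_mem_Hs 3 (by decide))
    · rw [pw_single]; exact hL (gG_mem_Hs 4 (by decide))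
    · rw [pw_single]; exact hL (gG_mem_Hs 5 (by decide))
  have hm := pw_flatten_mem L _ hall wu (by decide)
  refine mem_of_same_image hL ?_ hm
  rw [phi_gG (by decide), σ_apply, phi_prodw_apply _ (by decide)]
  decide +kernel

def wu' : List (List ℕ) :=
  [[6], [3], [5], [4, 3, 2, 1, 4, 3, 2, 1, 4, 3, 2, 1, 4, 3, 2, 1, 4, 3, 2, 1, 4, 3, 2, 1, 4, 3, 2, 1],
    [6], [3], [5], [3],
    [4, 3, 2, 1, 4, 3, 2, 1, 4, 3, 2, 1, 4, 3, 2, 1, 4, 3, 2, 1, 4, 3, 2, 1, 4, 3, 2, 1], [6]]

/-- from `g ∈ L` to `b ∈ L`. -/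
theorem b_of_g {L : Subgroup G} (hL : Hs ≤ L) (hg : gG 6 ∈ L) : gG 1 ∈ L := by
  have hall : ∀ w ∈ [[6], [3], [5],
      [4, 3, 2, 1, 4, 3, 2, 1, 4, 3, 2, 1, 4, 3, 2, 1, 4, 3, 2, 1, 4, 3, 2, 1, 4, 3, 2, 1]],
      prodw w ∈ L := by
    intro w hw
    simp only [List.mem_cons, List.not_mem_nil, or_false] at hw
    rcases hw with rfl | rfl | rfl | rfl
    · rw [pw_single]; exact hg
    · rw [pw_single]; exact hL (gG_mem_Hs 3 (by decide))
    · rw [pw_single]; exact hL (gG_mem_Hs 5 (by decide))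
    · exact hL (subW_mem_Hs 6 (by decide))
  have hm := pw_flatten_mem L _ hall wu' (by decide)
  refine mem_of_same_image hL ?_ hm
  rw [phi_gG (by decide), σ_apply, phi_prodw_apply _ (by decide)]
  decide +kernel

theorem top_of_b_g {L : Subgroup G} (hL : Hs ≤ L) (hb : gG 1 ∈ L) (hg : gG 6 ∈ L) : L = ⊤ := by
  rw [eq_top_iff, ← hgenG, Subgroup.closure_le]
  rintro _ ⟨l, hl, rfl⟩
  unfold nl at hl
  interval_cases l
  · exact hL (gG_mem_Hs 0 (by decide))
  · exact hb
  · exact hL (gG_mem_Hs 2 (by decide))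
  · exact hL (gG_mem_Hs 3 (by decide))
  · exact hL (gG_mem_Hs 4 (by decide))
  · exact hL (gG_mem_Hs 5 (by decide))
  · exact hg

theorem oid0 {i : ℕ} (hi : i < N) (h : oid i = 0) : i = 0 := by
  obtain ⟨g, hg, e⟩ := orb_reach 0 (odep i) i hi rfl h
  have e' : phi g 0 = i := e
  rw [hH g hg] at e'
  exact e'.symm

def chkOid : Bool := (List.range N).all fun i => decide (oid i < 5)

theorem chkOid_ok : chkOid = true := by decide +kernel

theorem oid_lt5 {i : ℕ} (hi : i < N) : oid i < 5 := by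
  have h := chkOid_ok
  simp only [chkOid, List.all_eq_true, List.mem_range, decide_eq_true_eq] at h
  exact h i hi

def wy3 : List ℕ := [1, 2, 3, 2, 3, 6]
def wy4 : List ℕ := [6, 3, 2, 1, 3, 6]

theorem maximal {L : Subgroup G} (hL : Hs ≤ L) {l : G} (hl : l ∈ L) (hn : l ∉ Hs) : L = ⊤ := by
  have hiN : phi l 0 < N := phi_lt l N_pos
  have hi0 : phi l 0 ≠ 0 := fun h => hn (stab0.mp h)
  have h1 : phi (gG 1) 0 = 1 := by
    rw [phi_gG (by decide), σ_apply]; decide +kernel
  have h6 : phi (gG 6) 0 = 2 := by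
    rw [phi_gG (by decide), σ_apply]; decide +kernel
  -- the generic step: an element of `L` moving `0` to the orbit with root `r = y • 0` gives `y ∈ L`
  have key : ∀ (c r : ℕ) (y : G), oroot c = r → phi y 0 = r → ∀ g ∈ L, oid (phi g 0) = c → y ∈ L := by
    intro c r y hr hy g hg ho
    obtain ⟨h, hh, e⟩ := orb_reach c (odep _) (phi g 0) (phi_lt g N_pos) rfl ho
    rw [hr] at e
    have e1 : phi (h * y) 0 = phi g 0 := by
      rw [map_mul, Equiv.Perm.mul_apply, hy]; exact e
    have hm : h * y ∈ L := mem_of_same_image hL e1 hg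
    have := L.mul_mem (L.inv_mem (hL hh)) hm
    simpa using this
  have top1 : ∀ g ∈ L, oid (phi g 0) = 1 → L = ⊤ := by
    intro g hg ho
    have hb : gG 1 ∈ L := key 1 1 (gG 1) rfl h1 g hg ho
    exact top_of_b_g hL hb (g_of_b hL hb)
  have top2 : ∀ g ∈ L, oid (phi g 0) = 2 → L = ⊤ := by
    intro g hg ho
    have hg6 : gG 6 ∈ L := key 2 2 (gG 6) rfl h6 g hg ho
    exact top_of_b_g hL (b_of_g hL hg6) hg6
  have hcase : oid (phi l 0) = 1 ∨ oid (phi l 0) = 2 ∨ oid (phi l 0) = 3 ∨ oid (phi l 0) = 4 := by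
    have h5 := oid_lt5 hiN
    have h0 : oid (phi l 0) ≠ 0 := fun h => hi0 (oid0 hiN h)
    omega
  rcases hcase with h | h | h | h
  · exact top1 l hl h
  · exact top2 l hl h
  · -- orbit with root 46
    have hy0 : phi (prodw wy3) 0 = 46 := by
      rw [phi_prodw_apply _ (by decide)]; decide +kernel
    have hy : prodw wy3 ∈ L := key 3 46 (prodw wy3) rfl hy0 l hl h
    apply top1 (prodw wy3 * prodw wy3) (L.mul_mem hy hy)
    rw [map_mul, Equiv.Perm.mul_apply, hy0, phi_prodw_apply _ (by decide)]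
    decide +kernel
  · -- orbit with root 65
    have hy0 : phi (prodw wy4) 0 = 65 := by
      rw [phi_prodw_apply _ (by decide)]; decide +kernel
    have hy : prodw wy4 ∈ L := key 4 65 (prodw wy4) rfl hy0 l hl h
    obtain ⟨h', hh', e2⟩ := orb_reach 4 (odep 114) 114 (by decide) rfl (by decide +kernel)
    have e2' : phi h' 65 = 114 := e2
    apply top1 (prodw wy4 * h' * prodw wy4) (L.mul_mem (L.mul_mem hy (hL hh')) hy)
    rw [map_mul, map_mul, Equiv.Perm.mul_apply, Equiv.Perm.mul_apply, hy0, e2',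
      phi_prodw_apply _ (by decide)]
    decide +kernel

/-! ### the element of order 7 -/

def wx : List ℕ := [3, 5, 6]

def xG : G := prodw wx

theorem xG_pow : xG ^ 7 = 1 := by
  rw [xG, ← pw_replicate]
  exact prodw_eq_one (by decide +kernel)

theorem xG_eq : xG = gG 6 * gG 5 * gG 3 := by
  simp [xG, wx, prodw, mul_assoc]

theorem card_Hs : Nat.card Hs = 1958400 := by
  have h1 : Nat.card Hs * Hs.index = Nat.card G := Subgroup.card_mul_index Hs
  have h2 : Hs.index = 2058 := by
    rw [Subgroup.index_eq_card]; exact card_Q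
  rw [h2, card_G] at h1
  omega

theorem x_mem {M : Subgroup G} [hMn : M.Normal] (hM : M ⊔ Hs = ⊤) : xG ∈ M := by
  haveI := finG
  have h1 : M.index = M.relIndex Hs := by
    rw [← Subgroup.relIndex_top_right, ← hM, Subgroup.relIndex_sup_left]
  have h2 : M.relIndex Hs ∣ Nat.card Hs := Subgroup.relIndex_dvd_card _ _
  have h4 : M.index ∣ 1958400 := by rw [h1, ← card_Hs]; exact h2
  have h5 : orderOf (QuotientGroup.mk' M xG) ∣ 7 := by
    apply orderOf_dvd_of_pow_eq_one
    rw [← map_pow, xG_pow, map_one]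
  have h6 : orderOf (QuotientGroup.mk' M xG) ∣ Nat.card (G ⧸ M) := orderOf_dvd_natCard _
  rw [← Subgroup.index_eq_card] at h6
  have h7 : orderOf (QuotientGroup.mk' M xG) ∣ Nat.gcd 7 1958400 :=
    Nat.dvd_gcd h5 (h6.trans h4)
  have h8 : Nat.gcd 7 1958400 = 1 := by norm_num
  rw [h8, Nat.dvd_one, orderOf_eq_one_iff, QuotientGroup.mk'_apply,
    QuotientGroup.eq_one_iff] at h7
  exact h7

/-! ### from `x ∈ M` to `M = ⊤` -/

theorem one_of_odd {Γ : Type*} [Group Γ] {y : Γ} (h2 : y ^ 2 = 1) {m : ℕ} (hm : y ^ m = 1)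
    (hodd : m % 2 = 1) : y = 1 := by
  have h1 : orderOf y ∣ 2 := orderOf_dvd_of_pow_eq_one h2
  have h3 : orderOf y ∣ m := orderOf_dvd_of_pow_eq_one hm
  rcases (Nat.dvd_prime Nat.prime_two).mp h1 with h | h
  · exact orderOf_eq_one_iff.mp h
  · rw [h] at h3; omega

theorem top_of_x_mem {M : Subgroup G} [M.Normal] (hx : xG ∈ M) : M = ⊤ := by
  set π : G →* G ⧸ M := QuotientGroup.mk' M with hπ
  have hker : ∀ g : G, π g = 1 → g ∈ M := fun g hg => by
    rwa [hπ, QuotientGroup.mk'_apply, QuotientGroup.eq_one_iff] at hg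
  have sq : ∀ l, π (gG l) ^ 2 = 1 := by
    intro l; rw [← map_pow, pow_two, gG_mul_self, map_one]
  have sq' : ∀ l, π (gG l) * π (gG l) = 1 := fun l => by rw [← pow_two]; exact sq l
  have inv' : ∀ l, (π (gG l))⁻¹ = π (gG l) := fun l => by
    rw [inv_eq_iff_mul_eq_one]; exact sq' l
  have px : π (gG 6) * π (gG 5) * π (gG 3) = 1 := by
    rw [← map_mul, ← map_mul, ← xG_eq, hπ, QuotientGroup.mk'_apply, QuotientGroup.eq_one_iff]
    exact hx
  have cx : ∀ i j m, coxLabel He.edges (gen i) (gen j) = m → (π (gG i) * π (gG j)) ^ m = 1 := by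
    intro i j m hm
    rw [← map_mul, ← map_pow, ← hm, coxG, map_one]
  -- d = f g in the quotient
  have hd : π (gG 3) = π (gG 5) * π (gG 6) := by
    have : π (gG 3) = (π (gG 6) * π (gG 5))⁻¹ := by
      rw [eq_inv_iff_mul_eq_one, mul_eq_one_comm]; exact px
    rw [this, mul_inv_rev, inv' 5, inv' 6]
  -- e = (f g)^2 = d^2 = 1
  have pe : π (gG 4) = 1 := by
    have h := extra_one (r := He.e * ((He.f * He.g) ^ 2)⁻¹) (by simp [He.extra])
    simp only [map_mul, map_inv, map_pow, mk_of, ofG4, ofG5, ofG6] at h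
    have h' := congrArg π h
    simp only [map_mul, map_inv, map_pow, map_one] at h'
    rw [← hd, sq 3, inv_one, mul_one] at h'
    exact h'
  have pd : π (gG 3) = 1 := by
    have h := cx 3 4 3 (by decide)
    rw [pe, mul_one] at h
    exact one_of_odd (sq 3) h (by norm_num)
  have pf : π (gG 5) = 1 := by
    have h := cx 3 5 3 (by decide)
    rw [pd, one_mul] at h
    exact one_of_odd (sq 5) h (by norm_num)
  have pg : π (gG 6) = 1 := by
    have h := cx 3 6 3 (by decide)
    rw [pd, one_mul] at h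
    exact one_of_odd (sq 6) h (by norm_num)
  -- a = (c d)^5 = c^5 = c
  have pa : π (gG 0) = π (gG 2) := by
    have h := extra_one (r := He.a * ((He.c * He.d) ^ 5)⁻¹) (by simp [He.extra])
    simp only [map_mul, map_inv, map_pow, mk_of, ofG0, ofG2, ofG3] at h
    have h' := congrArg π h
    simp only [map_mul, map_inv, map_pow, map_one] at h'
    rw [pd, mul_one] at h'
    have h5 : π (gG 2) ^ 5 = π (gG 2) := by
      rw [show (5 : ℕ) = 2 + 2 + 1 by norm_num, pow_add, pow_add, sq 2, one_mul, one_mul, pow_one]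
    rw [h5, mul_inv_eq_one] at h'
    exact h'
  -- e = (a b c)^3 gives b = 1
  have pb : π (gG 1) = 1 := by
    have h := extra_one (r := He.e * ((He.a * He.b * He.c) ^ 3)⁻¹) (by simp [He.extra])
    simp only [map_mul, map_inv, map_pow, mk_of, ofG0, ofG1, ofG2, ofG4] at h
    have h' := congrArg π h
    simp only [map_mul, map_inv, map_pow, map_one] at h'
    rw [pe, one_mul, inv_eq_one, pa] at h'
    have hc : π (gG 2) * π (gG 1) * π (gG 2) = π (gG 2) * π (gG 1) * (π (gG 2))⁻¹ := by
      rw [inv' 2]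
    rw [hc, conj_pow] at h'
    have h3 : π (gG 1) ^ 3 = 1 := by
      have := congrArg (fun z => (π (gG 2))⁻¹ * z * π (gG 2)) h'
      simpa [mul_assoc] using this
    exact one_of_odd (sq 1) h3 (by norm_num)
  have pc : π (gG 2) = 1 := by
    have h := cx 1 2 3 (by decide)
    rw [pb, one_mul] at h
    exact one_of_odd (sq 2) h (by norm_num)
  rw [eq_top_iff, ← hgenG, Subgroup.closure_le]
  rintro _ ⟨l, hl, rfl⟩
  apply hker
  unfold nl at hl
  interval_cases l
  · rw [pa]; exact pc
  · exact pb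
  · exact pc
  · exact pd
  · exact pe
  · exact pf
  · exact pg

/-! ### main theorem -/

theorem eq_top_of_normal {M : Subgroup G} [hMn : M.Normal] (hne : M ≠ ⊥) : M = ⊤ := by
  haveI := finG
  have hnot : ¬ M ≤ Hs := by
    intro hle
    apply hne
    rw [eq_bot_iff]
    intro m hm
    rw [Subgroup.mem_bot]
    apply eq_one_of_fix
    intro b hb
    have hbN : b < N := by
      simp only [List.mem_cons, List.not_mem_nil, or_false] at hb
      rcases hb with rfl | rfl | rfl | rfl <;> decide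
    obtain ⟨g, hg⟩ := trans0 hbN
    have h1 : g⁻¹ * m * g ∈ Hs := by
      apply hle
      have := hMn.conj_mem m hm g⁻¹
      simpa using this
    rw [← stab0, map_mul, map_mul, map_inv, Equiv.Perm.mul_apply, Equiv.Perm.mul_apply, hg,
      Equiv.Perm.inv_eq_iff_eq] at h1
    rw [hg] at h1
    exact h1
  obtain ⟨m, hm, hmn⟩ := SetLike.not_le_iff_exists.mp hnot
  have htop : M ⊔ Hs = ⊤ := maximal le_sup_right (Subgroup.mem_sup_left hm) hmn
  exact top_of_x_mem (x_mem htop)

theorem isSimple : IsSimpleGroup G := by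
  haveI : Nontrivial G := by
    haveI := finG
    rw [← Finite.one_lt_card_iff_nontrivial, card_G]; norm_num
  exact ⟨fun M hM => by
    by_cases h : M = ⊥
    · exact Or.inl h
    · exact Or.inr (@eq_top_of_normal M hM h)⟩

end Cfsg.Agent.Helper19.HeOrd
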